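import Cfsg.Agent.Lib.KnownSimple.G23Lab.Data

set_option autoImplicit false
set_option maxRecDepth 100000

namespace Cfsg.Agent.Lib.KnownSimple.G23Lab

open Cfsg.Agent.Lib.KnownSimple.Lab Cfsg.Agent.Lib.KnownSimple.G23Lab Dat

theorem hL0c0_c0 : allI (fun i => lowOK D.T lN0 3 0 wr0 i) 0 702 = true := by decide +kernel
theorem hL0c0_u0 : ∀ i, i < 702 → (fun i => lowOK D.T lN0 3 0 wr0 i) i = true :=
  allI_join allI_start hL0c0_c0 rfl
theorem hL0c0 : ∀ i, i < 702 → (fun i => lowOK D.T lN0 3 0 wr0 i) i = true := hL0c0_u0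
theorem hL1c0_c0 : allI (fun i => lowOK D.T lN0 3 0 wr1 i) 0 702 = true := by decide +kernel
theorem hL1c0_u0 : ∀ i, i < 702 → (fun i => lowOK D.T lN0 3 0 wr1 i) i = true :=
  allI_join allI_start hL1c0_c0 rfl
theorem hL1c0 : ∀ i, i < 702 → (fun i => lowOK D.T lN0 3 0 wr1 i) i = true := hL1c0_u0
theorem hL2c0_c0 : allI (fun i => lowOK D.T lN0 3 0 wr2 i) 0 702 = true := by decide +kernel
theorem hL2c0_u0 : ∀ i, i < 702 → (fun i => lowOK D.T lN0 3 0 wr2 i) i = true :=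
  allI_join allI_start hL2c0_c0 rfl
theorem hL2c0 : ∀ i, i < 702 → (fun i => lowOK D.T lN0 3 0 wr2 i) i = true := hL2c0_u0
theorem hL3c0_c0 : allI (fun i => lowOK D.T lN0 3 0 wr3 i) 0 702 = true := by decide +kernel
theorem hL3c0_u0 : ∀ i, i < 702 → (fun i => lowOK D.T lN0 3 0 wr3 i) i = true :=
  allI_join allI_start hL3c0_c0 rfl
theorem hL3c0 : ∀ i, i < 702 → (fun i => lowOK D.T lN0 3 0 wr3 i) i = true := hL3c0_u0
theorem hL4c0_c0 : allI (fun i => lowOK D.T lN0 3 0 wr4 i) 0 702 = true := by decide +kernel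
theorem hL4c0_u0 : ∀ i, i < 702 → (fun i => lowOK D.T lN0 3 0 wr4 i) i = true :=
  allI_join allI_start hL4c0_c0 rfl
theorem hL4c0 : ∀ i, i < 702 → (fun i => lowOK D.T lN0 3 0 wr4 i) i = true := hL4c0_u0
theorem hL5c0_c0 : allI (fun i => lowOK D.T lN0 3 0 wr5 i) 0 702 = true := by decide +kernel
theorem hL5c0_u0 : ∀ i, i < 702 → (fun i => lowOK D.T lN0 3 0 wr5 i) i = true :=
  allI_join allI_start hL5c0_c0 rfl
theorem hL5c0 : ∀ i, i < 702 → (fun i => lowOK D.T lN0 3 0 wr5 i) i = true := hL5c0_u0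
theorem hL6c0_c0 : allI (fun i => lowOK D.T lN0 3 0 wr6 i) 0 702 = true := by decide +kernel
theorem hL6c0_u0 : ∀ i, i < 702 → (fun i => lowOK D.T lN0 3 0 wr6 i) i = true :=
  allI_join allI_start hL6c0_c0 rfl
theorem hL6c0 : ∀ i, i < 702 → (fun i => lowOK D.T lN0 3 0 wr6 i) i = true := hL6c0_u0
theorem hL7c0_c0 : allI (fun i => lowOK D.T lN0 3 1 wr7 i) 0 702 = true := by decide +kernel
theorem hL7c0_u0 : ∀ i, i < 702 → (fun i => lowOK D.T lN0 3 1 wr7 i) i = true :=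
  allI_join allI_start hL7c0_c0 rfl
theorem hL7c0 : ∀ i, i < 702 → (fun i => lowOK D.T lN0 3 1 wr7 i) i = true := hL7c0_u0
theorem hL8c0_c0 : allI (fun i => lowOK D.T lN0 3 0 wr8 i) 0 702 = true := by decide +kernel
theorem hL8c0_u0 : ∀ i, i < 702 → (fun i => lowOK D.T lN0 3 0 wr8 i) i = true :=
  allI_join allI_start hL8c0_c0 rfl
theorem hL8c0 : ∀ i, i < 702 → (fun i => lowOK D.T lN0 3 0 wr8 i) i = true := hL8c0_u0
theorem hL9c0_c0 : allI (fun i => lowOK D.T lN0 3 0 wr9 i) 0 702 = true := by decide +kernel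
theorem hL9c0_u0 : ∀ i, i < 702 → (fun i => lowOK D.T lN0 3 0 wr9 i) i = true :=
  allI_join allI_start hL9c0_c0 rfl
theorem hL9c0 : ∀ i, i < 702 → (fun i => lowOK D.T lN0 3 0 wr9 i) i = true := hL9c0_u0
theorem hLP0c0_c0 : allI (fun i => lowOK D.T lN0 3 0 pw0 i) 0 702 = true := by decide +kernel
theorem hLP0c0_u0 : ∀ i, i < 702 → (fun i => lowOK D.T lN0 3 0 pw0 i) i = true :=
  allI_join allI_start hLP0c0_c0 rfl
theorem hLP0c0 : ∀ i, i < 702 → (fun i => lowOK D.T lN0 3 0 pw0 i) i = true := hLP0c0_u0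
theorem hLP2c0_c0 : allI (fun i => lowOK D.T lN0 3 0 pw2 i) 0 702 = true := by decide +kernel
theorem hLP2c0_u0 : ∀ i, i < 702 → (fun i => lowOK D.T lN0 3 0 pw2 i) i = true :=
  allI_join allI_start hLP2c0_c0 rfl
theorem hLP2c0 : ∀ i, i < 702 → (fun i => lowOK D.T lN0 3 0 pw2 i) i = true := hLP2c0_u0
theorem hLP3c0_c0 : allI (fun i => lowOK D.T lN0 3 0 pw3 i) 0 702 = true := by decide +kernel
theorem hLP3c0_u0 : ∀ i, i < 702 → (fun i => lowOK D.T lN0 3 0 pw3 i) i = true :=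
  allI_join allI_start hLP3c0_c0 rfl
theorem hLP3c0 : ∀ i, i < 702 → (fun i => lowOK D.T lN0 3 0 pw3 i) i = true := hLP3c0_u0
theorem hLP4c0_c0 : allI (fun i => lowOK D.T lN0 3 0 pw4 i) 0 702 = true := by decide +kernel
theorem hLP4c0_u0 : ∀ i, i < 702 → (fun i => lowOK D.T lN0 3 0 pw4 i) i = true :=
  allI_join allI_start hLP4c0_c0 rfl
theorem hLP4c0 : ∀ i, i < 702 → (fun i => lowOK D.T lN0 3 0 pw4 i) i = true := hLP4c0_u0
theorem hLP5c0_c0 : allI (fun i => lowOK D.T lN0 3 0 pw5 i) 0 702 = true := by decide +kernel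
theorem hLP5c0_u0 : ∀ i, i < 702 → (fun i => lowOK D.T lN0 3 0 pw5 i) i = true :=
  allI_join allI_start hLP5c0_c0 rfl
theorem hLP5c0 : ∀ i, i < 702 → (fun i => lowOK D.T lN0 3 0 pw5 i) i = true := hLP5c0_u0
theorem hLP6c0_c0 : allI (fun i => lowOK D.T lN0 3 0 pw6 i) 0 702 = true := by decide +kernel
theorem hLP6c0_u0 : ∀ i, i < 702 → (fun i => lowOK D.T lN0 3 0 pw6 i) i = true :=
  allI_join allI_start hLP6c0_c0 rfl
theorem hLP6c0 : ∀ i, i < 702 → (fun i => lowOK D.T lN0 3 0 pw6 i) i = true := hLP6c0_u0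
theorem hLP7c0_c0 : allI (fun i => lowOK D.T lN0 3 0 pw7 i) 0 702 = true := by decide +kernel
theorem hLP7c0_u0 : ∀ i, i < 702 → (fun i => lowOK D.T lN0 3 0 pw7 i) i = true :=
  allI_join allI_start hLP7c0_c0 rfl
theorem hLP7c0 : ∀ i, i < 702 → (fun i => lowOK D.T lN0 3 0 pw7 i) i = true := hLP7c0_u0
theorem hLP8c0_c0 : allI (fun i => lowOK D.T lN0 3 0 pw8 i) 0 702 = true := by decide +kernel
theorem hLP8c0_u0 : ∀ i, i < 702 → (fun i => lowOK D.T lN0 3 0 pw8 i) i = true :=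
  allI_join allI_start hLP8c0_c0 rfl
theorem hLP8c0 : ∀ i, i < 702 → (fun i => lowOK D.T lN0 3 0 pw8 i) i = true := hLP8c0_u0
theorem hLP9c0_c0 : allI (fun i => lowOK D.T lN0 3 2 pw9 i) 0 702 = true := by decide +kernel
theorem hLP9c0_u0 : ∀ i, i < 702 → (fun i => lowOK D.T lN0 3 2 pw9 i) i = true :=
  allI_join allI_start hLP9c0_c0 rfl
theorem hLP9c0 : ∀ i, i < 702 → (fun i => lowOK D.T lN0 3 2 pw9 i) i = true := hLP9c0_u0
theorem hLP10c0_c0 : allI (fun i => lowOK D.T lN0 3 2 pw10 i) 0 702 = true := by decide +kernel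
theorem hLP10c0_u0 : ∀ i, i < 702 → (fun i => lowOK D.T lN0 3 2 pw10 i) i = true :=
  allI_join allI_start hLP10c0_c0 rfl
theorem hLP10c0 : ∀ i, i < 702 → (fun i => lowOK D.T lN0 3 2 pw10 i) i = true := hLP10c0_u0
theorem hES0c0_c0 : allI (fun i => lowOK D.T lN0 3 0 wES0 i) 0 702 = true := by decide +kernel
theorem hES0c0_u0 : ∀ i, i < 702 → (fun i => lowOK D.T lN0 3 0 wES0 i) i = true :=
  allI_join allI_start hES0c0_c0 rfl
theorem hES0c0 : ∀ i, i < 702 → (fun i => lowOK D.T lN0 3 0 wES0 i) i = true := hES0c0_u0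
theorem hES1c0_c0 : allI (fun i => lowOK D.T lN0 3 0 wES1 i) 0 702 = true := by decide +kernel
theorem hES1c0_u0 : ∀ i, i < 702 → (fun i => lowOK D.T lN0 3 0 wES1 i) i = true :=
  allI_join allI_start hES1c0_c0 rfl
theorem hES1c0 : ∀ i, i < 702 → (fun i => lowOK D.T lN0 3 0 wES1 i) i = true := hES1c0_u0
theorem hES2c0_c0 : allI (fun i => lowOK D.T lN0 3 0 wES2 i) 0 702 = true := by decide +kernel
theorem hES2c0_u0 : ∀ i, i < 702 → (fun i => lowOK D.T lN0 3 0 wES2 i) i = true :=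
  allI_join allI_start hES2c0_c0 rfl
theorem hES2c0 : ∀ i, i < 702 → (fun i => lowOK D.T lN0 3 0 wES2 i) i = true := hES2c0_u0
theorem hES3c0_c0 : allI (fun i => lowOK D.T lN0 3 0 wES3 i) 0 702 = true := by decide +kernel
theorem hES3c0_u0 : ∀ i, i < 702 → (fun i => lowOK D.T lN0 3 0 wES3 i) i = true :=
  allI_join allI_start hES3c0_c0 rfl
theorem hES3c0 : ∀ i, i < 702 → (fun i => lowOK D.T lN0 3 0 wES3 i) i = true := hES3c0_u0
theorem hES4c0_c0 : allI (fun i => lowOK D.T lN0 3 1 wES4 i) 0 702 = true := by decide +kernel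
theorem hES4c0_u0 : ∀ i, i < 702 → (fun i => lowOK D.T lN0 3 1 wES4 i) i = true :=
  allI_join allI_start hES4c0_c0 rfl
theorem hES4c0 : ∀ i, i < 702 → (fun i => lowOK D.T lN0 3 1 wES4 i) i = true := hES4c0_u0
theorem hES5c0_c0 : allI (fun i => lowOK D.T lN0 3 0 wES5 i) 0 702 = true := by decide +kernel
theorem hES5c0_u0 : ∀ i, i < 702 → (fun i => lowOK D.T lN0 3 0 wES5 i) i = true :=
  allI_join allI_start hES5c0_c0 rfl
theorem hES5c0 : ∀ i, i < 702 → (fun i => lowOK D.T lN0 3 0 wES5 i) i = true := hES5c0_u0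
theorem hES6c0_c0 : allI (fun i => lowOK D.T lN0 3 1 wES6 i) 0 702 = true := by decide +kernel
theorem hES6c0_u0 : ∀ i, i < 702 → (fun i => lowOK D.T lN0 3 1 wES6 i) i = true :=
  allI_join allI_start hES6c0_c0 rfl
theorem hES6c0 : ∀ i, i < 702 → (fun i => lowOK D.T lN0 3 1 wES6 i) i = true := hES6c0_u0
theorem hES7c0_c0 : allI (fun i => lowOK D.T lN0 3 2 wES7 i) 0 702 = true := by decide +kernel
theorem hES7c0_u0 : ∀ i, i < 702 → (fun i => lowOK D.T lN0 3 2 wES7 i) i = true :=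
  allI_join allI_start hES7c0_c0 rfl
theorem hES7c0 : ∀ i, i < 702 → (fun i => lowOK D.T lN0 3 2 wES7 i) i = true := hES7c0_u0
theorem hES8c0_c0 : allI (fun i => lowOK D.T lN0 3 1 wES8 i) 0 702 = true := by decide +kernel
theorem hES8c0_u0 : ∀ i, i < 702 → (fun i => lowOK D.T lN0 3 1 wES8 i) i = true :=
  allI_join allI_start hES8c0_c0 rfl
theorem hES8c0 : ∀ i, i < 702 → (fun i => lowOK D.T lN0 3 1 wES8 i) i = true := hES8c0_u0
theorem hES9c0_c0 : allI (fun i => lowOK D.T lN0 3 2 wES9 i) 0 341 = true := by decide +kernel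
theorem hES9c0_u0 : ∀ i, i < 341 → (fun i => lowOK D.T lN0 3 2 wES9 i) i = true :=
  allI_join allI_start hES9c0_c0 rfl
theorem hES9c0_c1 : allI (fun i => lowOK D.T lN0 3 2 wES9 i) 341 341 = true := by decide +kernel
theorem hES9c0_u1 : ∀ i, i < 682 → (fun i => lowOK D.T lN0 3 2 wES9 i) i = true :=
  allI_join hES9c0_u0 hES9c0_c1 rfl
theorem hES9c0_c2 : allI (fun i => lowOK D.T lN0 3 2 wES9 i) 682 20 = true := by decide +kernel
theorem hES9c0_u2 : ∀ i, i < 702 → (fun i => lowOK D.T lN0 3 2 wES9 i) i = true :=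
  allI_join hES9c0_u1 hES9c0_c2 rfl
theorem hES9c0 : ∀ i, i < 702 → (fun i => lowOK D.T lN0 3 2 wES9 i) i = true := hES9c0_u2
theorem hES10c0_c0 : allI (fun i => lowOK D.T lN0 3 0 wES10 i) 0 365 = true := by decide +kernel
theorem hES10c0_u0 : ∀ i, i < 365 → (fun i => lowOK D.T lN0 3 0 wES10 i) i = true :=
  allI_join allI_start hES10c0_c0 rfl
theorem hES10c0_c1 : allI (fun i => lowOK D.T lN0 3 0 wES10 i) 365 337 = true := by decide +kernel
theorem hES10c0_u1 : ∀ i, i < 702 → (fun i => lowOK D.T lN0 3 0 wES10 i) i = true :=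
  allI_join hES10c0_u0 hES10c0_c1 rfl
theorem hES10c0 : ∀ i, i < 702 → (fun i => lowOK D.T lN0 3 0 wES10 i) i = true := hES10c0_u1
theorem hES11c0_c0 : allI (fun i => lowOK D.T lN0 3 0 wES11 i) 0 630 = true := by decide +kernel
theorem hES11c0_u0 : ∀ i, i < 630 → (fun i => lowOK D.T lN0 3 0 wES11 i) i = true :=
  allI_join allI_start hES11c0_c0 rfl
theorem hES11c0_c1 : allI (fun i => lowOK D.T lN0 3 0 wES11 i) 630 72 = true := by decide +kernel
theorem hES11c0_u1 : ∀ i, i < 702 → (fun i => lowOK D.T lN0 3 0 wES11 i) i = true :=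
  allI_join hES11c0_u0 hES11c0_c1 rfl
theorem hES11c0 : ∀ i, i < 702 → (fun i => lowOK D.T lN0 3 0 wES11 i) i = true := hES11c0_u1

end Cfsg.Agent.Lib.KnownSimple.G23Lab
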