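import Cfsg.Agent.Lib.KnownSimple.G23Lab.Data

set_option autoImplicit false
set_option maxRecDepth 100000

namespace Cfsg.Agent.Lib.KnownSimple.G23Lab

open Cfsg.Agent.Lib.KnownSimple.Lab Cfsg.Agent.Lib.KnownSimple.G23Lab Dat

theorem hES12c0_c0 : allI (fun i => lowOK D.T lN0 3 2 wES12 i) 0 284 = true := by decide +kernel
theorem hES12c0_u0 : ∀ i, i < 284 → (fun i => lowOK D.T lN0 3 2 wES12 i) i = true :=
  allI_join allI_start hES12c0_c0 rfl
theorem hES12c0_c1 : allI (fun i => lowOK D.T lN0 3 2 wES12 i) 284 284 = true := by decide +kernel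
theorem hES12c0_u1 : ∀ i, i < 568 → (fun i => lowOK D.T lN0 3 2 wES12 i) i = true :=
  allI_join hES12c0_u0 hES12c0_c1 rfl
theorem hES12c0_c2 : allI (fun i => lowOK D.T lN0 3 2 wES12 i) 568 134 = true := by decide +kernel
theorem hES12c0_u2 : ∀ i, i < 702 → (fun i => lowOK D.T lN0 3 2 wES12 i) i = true :=
  allI_join hES12c0_u1 hES12c0_c2 rfl
theorem hES12c0 : ∀ i, i < 702 → (fun i => lowOK D.T lN0 3 2 wES12 i) i = true := hES12c0_u2
theorem hES13c0_c0 : allI (fun i => lowOK D.T lN0 3 2 wES13 i) 0 386 = true := by decide +kernel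
theorem hES13c0_u0 : ∀ i, i < 386 → (fun i => lowOK D.T lN0 3 2 wES13 i) i = true :=
  allI_join allI_start hES13c0_c0 rfl
theorem hES13c0_c1 : allI (fun i => lowOK D.T lN0 3 2 wES13 i) 386 316 = true := by decide +kernel
theorem hES13c0_u1 : ∀ i, i < 702 → (fun i => lowOK D.T lN0 3 2 wES13 i) i = true :=
  allI_join hES13c0_u0 hES13c0_c1 rfl
theorem hES13c0 : ∀ i, i < 702 → (fun i => lowOK D.T lN0 3 2 wES13 i) i = true := hES13c0_u1
theorem hES14c0_c0 : allI (fun i => lowOK D.T lN0 3 2 wES14 i) 0 702 = true := by decide +kernel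
theorem hES14c0_u0 : ∀ i, i < 702 → (fun i => lowOK D.T lN0 3 2 wES14 i) i = true :=
  allI_join allI_start hES14c0_c0 rfl
theorem hES14c0 : ∀ i, i < 702 → (fun i => lowOK D.T lN0 3 2 wES14 i) i = true := hES14c0_u0
theorem hES15c0_c0 : allI (fun i => lowOK D.T lN0 3 2 wES15 i) 0 561 = true := by decide +kernel
theorem hES15c0_u0 : ∀ i, i < 561 → (fun i => lowOK D.T lN0 3 2 wES15 i) i = true :=
  allI_join allI_start hES15c0_c0 rfl
theorem hES15c0_c1 : allI (fun i => lowOK D.T lN0 3 2 wES15 i) 561 141 = true := by decide +kernel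
theorem hES15c0_u1 : ∀ i, i < 702 → (fun i => lowOK D.T lN0 3 2 wES15 i) i = true :=
  allI_join hES15c0_u0 hES15c0_c1 rfl
theorem hES15c0 : ∀ i, i < 702 → (fun i => lowOK D.T lN0 3 2 wES15 i) i = true := hES15c0_u1
theorem hES16c0_c0 : allI (fun i => lowOK D.T lN0 3 2 wES16 i) 0 342 = true := by decide +kernel
theorem hES16c0_u0 : ∀ i, i < 342 → (fun i => lowOK D.T lN0 3 2 wES16 i) i = true :=
  allI_join allI_start hES16c0_c0 rfl
theorem hES16c0_c1 : allI (fun i => lowOK D.T lN0 3 2 wES16 i) 342 342 = true := by decide +kernel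
theorem hES16c0_u1 : ∀ i, i < 684 → (fun i => lowOK D.T lN0 3 2 wES16 i) i = true :=
  allI_join hES16c0_u0 hES16c0_c1 rfl
theorem hES16c0_c2 : allI (fun i => lowOK D.T lN0 3 2 wES16 i) 684 18 = true := by decide +kernel
theorem hES16c0_u2 : ∀ i, i < 702 → (fun i => lowOK D.T lN0 3 2 wES16 i) i = true :=
  allI_join hES16c0_u1 hES16c0_c2 rfl
theorem hES16c0 : ∀ i, i < 702 → (fun i => lowOK D.T lN0 3 2 wES16 i) i = true := hES16c0_u2
theorem hES17c0_c0 : allI (fun i => lowOK D.T lN0 3 0 wES17 i) 0 403 = true := by decide +kernel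
theorem hES17c0_u0 : ∀ i, i < 403 → (fun i => lowOK D.T lN0 3 0 wES17 i) i = true :=
  allI_join allI_start hES17c0_c0 rfl
theorem hES17c0_c1 : allI (fun i => lowOK D.T lN0 3 0 wES17 i) 403 299 = true := by decide +kernel
theorem hES17c0_u1 : ∀ i, i < 702 → (fun i => lowOK D.T lN0 3 0 wES17 i) i = true :=
  allI_join hES17c0_u0 hES17c0_c1 rfl
theorem hES17c0 : ∀ i, i < 702 → (fun i => lowOK D.T lN0 3 0 wES17 i) i = true := hES17c0_u1

end Cfsg.Agent.Lib.KnownSimple.G23Lab
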