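import Cfsg.Agent.Lib.KnownSimple.G23Lab.Data

set_option autoImplicit false
set_option maxRecDepth 100000

namespace Cfsg.Agent.Lib.KnownSimple.G23Lab

open Cfsg.Agent.Lib.KnownSimple.Lab Cfsg.Agent.Lib.KnownSimple.G23Lab Dat

theorem hES18c0_c0 : allI (fun i => lowOK D.T lN0 3 0 wES18 i) 0 543 = true := by decide +kernel
theorem hES18c0_u0 : ∀ i, i < 543 → (fun i => lowOK D.T lN0 3 0 wES18 i) i = true :=
  allI_join allI_start hES18c0_c0 rfl
theorem hES18c0_c1 : allI (fun i => lowOK D.T lN0 3 0 wES18 i) 543 159 = true := by decide +kernel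
theorem hES18c0_u1 : ∀ i, i < 702 → (fun i => lowOK D.T lN0 3 0 wES18 i) i = true :=
  allI_join hES18c0_u0 hES18c0_c1 rfl
theorem hES18c0 : ∀ i, i < 702 → (fun i => lowOK D.T lN0 3 0 wES18 i) i = true := hES18c0_u1
theorem hES19c0_c0 : allI (fun i => lowOK D.T lN0 3 0 wES19 i) 0 702 = true := by decide +kernel
theorem hES19c0_u0 : ∀ i, i < 702 → (fun i => lowOK D.T lN0 3 0 wES19 i) i = true :=
  allI_join allI_start hES19c0_c0 rfl
theorem hES19c0 : ∀ i, i < 702 → (fun i => lowOK D.T lN0 3 0 wES19 i) i = true := hES19c0_u0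
theorem hES20c0_c0 : allI (fun i => lowOK D.T lN0 3 1 wES20 i) 0 702 = true := by decide +kernel
theorem hES20c0_u0 : ∀ i, i < 702 → (fun i => lowOK D.T lN0 3 1 wES20 i) i = true :=
  allI_join allI_start hES20c0_c0 rfl
theorem hES20c0 : ∀ i, i < 702 → (fun i => lowOK D.T lN0 3 1 wES20 i) i = true := hES20c0_u0
theorem hES21c0_c0 : allI (fun i => lowOK D.T lN0 3 2 wES21 i) 0 406 = true := by decide +kernel
theorem hES21c0_u0 : ∀ i, i < 406 → (fun i => lowOK D.T lN0 3 2 wES21 i) i = true :=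
  allI_join allI_start hES21c0_c0 rfl
theorem hES21c0_c1 : allI (fun i => lowOK D.T lN0 3 2 wES21 i) 406 296 = true := by decide +kernel
theorem hES21c0_u1 : ∀ i, i < 702 → (fun i => lowOK D.T lN0 3 2 wES21 i) i = true :=
  allI_join hES21c0_u0 hES21c0_c1 rfl
theorem hES21c0 : ∀ i, i < 702 → (fun i => lowOK D.T lN0 3 2 wES21 i) i = true := hES21c0_u1
theorem hES22c0_c0 : allI (fun i => lowOK D.T lN0 3 0 wES22 i) 0 547 = true := by decide +kernel
theorem hES22c0_u0 : ∀ i, i < 547 → (fun i => lowOK D.T lN0 3 0 wES22 i) i = true :=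
  allI_join allI_start hES22c0_c0 rfl
theorem hES22c0_c1 : allI (fun i => lowOK D.T lN0 3 0 wES22 i) 547 155 = true := by decide +kernel
theorem hES22c0_u1 : ∀ i, i < 702 → (fun i => lowOK D.T lN0 3 0 wES22 i) i = true :=
  allI_join hES22c0_u0 hES22c0_c1 rfl
theorem hES22c0 : ∀ i, i < 702 → (fun i => lowOK D.T lN0 3 0 wES22 i) i = true := hES22c0_u1
theorem hES23c0_c0 : allI (fun i => lowOK D.T lN0 3 0 wES23 i) 0 702 = true := by decide +kernel
theorem hES23c0_u0 : ∀ i, i < 702 → (fun i => lowOK D.T lN0 3 0 wES23 i) i = true :=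
  allI_join allI_start hES23c0_c0 rfl
theorem hES23c0 : ∀ i, i < 702 → (fun i => lowOK D.T lN0 3 0 wES23 i) i = true := hES23c0_u0
theorem hES24c0_c0 : allI (fun i => lowOK D.T lN0 3 0 wES24 i) 0 561 = true := by decide +kernel
theorem hES24c0_u0 : ∀ i, i < 561 → (fun i => lowOK D.T lN0 3 0 wES24 i) i = true :=
  allI_join allI_start hES24c0_c0 rfl
theorem hES24c0_c1 : allI (fun i => lowOK D.T lN0 3 0 wES24 i) 561 141 = true := by decide +kernel
theorem hES24c0_u1 : ∀ i, i < 702 → (fun i => lowOK D.T lN0 3 0 wES24 i) i = true :=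
  allI_join hES24c0_u0 hES24c0_c1 rfl
theorem hES24c0 : ∀ i, i < 702 → (fun i => lowOK D.T lN0 3 0 wES24 i) i = true := hES24c0_u1
theorem hES25c0_c0 : allI (fun i => lowOK D.T lN0 3 2 wES25 i) 0 439 = true := by decide +kernel
theorem hES25c0_u0 : ∀ i, i < 439 → (fun i => lowOK D.T lN0 3 2 wES25 i) i = true :=
  allI_join allI_start hES25c0_c0 rfl
theorem hES25c0_c1 : allI (fun i => lowOK D.T lN0 3 2 wES25 i) 439 263 = true := by decide +kernel
theorem hES25c0_u1 : ∀ i, i < 702 → (fun i => lowOK D.T lN0 3 2 wES25 i) i = true :=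
  allI_join hES25c0_u0 hES25c0_c1 rfl
theorem hES25c0 : ∀ i, i < 702 → (fun i => lowOK D.T lN0 3 2 wES25 i) i = true := hES25c0_u1
theorem hES26c0_c0 : allI (fun i => lowOK D.T lN0 3 0 wES26 i) 0 635 = true := by decide +kernel
theorem hES26c0_u0 : ∀ i, i < 635 → (fun i => lowOK D.T lN0 3 0 wES26 i) i = true :=
  allI_join allI_start hES26c0_c0 rfl
theorem hES26c0_c1 : allI (fun i => lowOK D.T lN0 3 0 wES26 i) 635 67 = true := by decide +kernel
theorem hES26c0_u1 : ∀ i, i < 702 → (fun i => lowOK D.T lN0 3 0 wES26 i) i = true :=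
  allI_join hES26c0_u0 hES26c0_c1 rfl
theorem hES26c0 : ∀ i, i < 702 → (fun i => lowOK D.T lN0 3 0 wES26 i) i = true := hES26c0_u1
theorem hES27c0_c0 : allI (fun i => lowOK D.T lN0 3 0 wES27 i) 0 702 = true := by decide +kernel
theorem hES27c0_u0 : ∀ i, i < 702 → (fun i => lowOK D.T lN0 3 0 wES27 i) i = true :=
  allI_join allI_start hES27c0_c0 rfl
theorem hES27c0 : ∀ i, i < 702 → (fun i => lowOK D.T lN0 3 0 wES27 i) i = true := hES27c0_u0

end Cfsg.Agent.Lib.KnownSimple.G23Lab
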