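import Cfsg.Agent.Lib.KnownSimple.G23Lab.Data

set_option autoImplicit false
set_option maxRecDepth 100000

namespace Cfsg.Agent.Lib.KnownSimple.G23Lab

open Cfsg.Agent.Lib.KnownSimple.Lab Cfsg.Agent.Lib.KnownSimple.G23Lab Dat

theorem hES28c0_c0 : allI (fun i => lowOK D.T lN0 3 0 wES28 i) 0 702 = true := by decide +kernel
theorem hES28c0_u0 : ∀ i, i < 702 → (fun i => lowOK D.T lN0 3 0 wES28 i) i = true :=
  allI_join allI_start hES28c0_c0 rfl
theorem hES28c0 : ∀ i, i < 702 → (fun i => lowOK D.T lN0 3 0 wES28 i) i = true := hES28c0_u0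
theorem hES29c0_c0 : allI (fun i => lowOK D.T lN0 3 0 wES29 i) 0 702 = true := by decide +kernel
theorem hES29c0_u0 : ∀ i, i < 702 → (fun i => lowOK D.T lN0 3 0 wES29 i) i = true :=
  allI_join allI_start hES29c0_c0 rfl
theorem hES29c0 : ∀ i, i < 702 → (fun i => lowOK D.T lN0 3 0 wES29 i) i = true := hES29c0_u0
theorem hES30c0_c0 : allI (fun i => lowOK D.T lN0 3 0 wES30 i) 0 702 = true := by decide +kernel
theorem hES30c0_u0 : ∀ i, i < 702 → (fun i => lowOK D.T lN0 3 0 wES30 i) i = true :=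
  allI_join allI_start hES30c0_c0 rfl
theorem hES30c0 : ∀ i, i < 702 → (fun i => lowOK D.T lN0 3 0 wES30 i) i = true := hES30c0_u0
theorem hES31c0_c0 : allI (fun i => lowOK D.T lN0 3 1 wES31 i) 0 421 = true := by decide +kernel
theorem hES31c0_u0 : ∀ i, i < 421 → (fun i => lowOK D.T lN0 3 1 wES31 i) i = true :=
  allI_join allI_start hES31c0_c0 rfl
theorem hES31c0_c1 : allI (fun i => lowOK D.T lN0 3 1 wES31 i) 421 281 = true := by decide +kernel
theorem hES31c0_u1 : ∀ i, i < 702 → (fun i => lowOK D.T lN0 3 1 wES31 i) i = true :=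
  allI_join hES31c0_u0 hES31c0_c1 rfl
theorem hES31c0 : ∀ i, i < 702 → (fun i => lowOK D.T lN0 3 1 wES31 i) i = true := hES31c0_u1
theorem hES32c0_c0 : allI (fun i => lowOK D.T lN0 3 2 wES32 i) 0 672 = true := by decide +kernel
theorem hES32c0_u0 : ∀ i, i < 672 → (fun i => lowOK D.T lN0 3 2 wES32 i) i = true :=
  allI_join allI_start hES32c0_c0 rfl
theorem hES32c0_c1 : allI (fun i => lowOK D.T lN0 3 2 wES32 i) 672 30 = true := by decide +kernel
theorem hES32c0_u1 : ∀ i, i < 702 → (fun i => lowOK D.T lN0 3 2 wES32 i) i = true :=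
  allI_join hES32c0_u0 hES32c0_c1 rfl
theorem hES32c0 : ∀ i, i < 702 → (fun i => lowOK D.T lN0 3 2 wES32 i) i = true := hES32c0_u1
theorem hES33c0_c0 : allI (fun i => lowOK D.T lN0 3 0 wES33 i) 0 702 = true := by decide +kernel
theorem hES33c0_u0 : ∀ i, i < 702 → (fun i => lowOK D.T lN0 3 0 wES33 i) i = true :=
  allI_join allI_start hES33c0_c0 rfl
theorem hES33c0 : ∀ i, i < 702 → (fun i => lowOK D.T lN0 3 0 wES33 i) i = true := hES33c0_u0
theorem hES34c0_c0 : allI (fun i => lowOK D.T lN0 3 0 wES34 i) 0 702 = true := by decide +kernel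
theorem hES34c0_u0 : ∀ i, i < 702 → (fun i => lowOK D.T lN0 3 0 wES34 i) i = true :=
  allI_join allI_start hES34c0_c0 rfl
theorem hES34c0 : ∀ i, i < 702 → (fun i => lowOK D.T lN0 3 0 wES34 i) i = true := hES34c0_u0
theorem hES35c0_c0 : allI (fun i => lowOK D.T lN0 3 2 wES35 i) 0 415 = true := by decide +kernel
theorem hES35c0_u0 : ∀ i, i < 415 → (fun i => lowOK D.T lN0 3 2 wES35 i) i = true :=
  allI_join allI_start hES35c0_c0 rfl
theorem hES35c0_c1 : allI (fun i => lowOK D.T lN0 3 2 wES35 i) 415 287 = true := by decide +kernel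
theorem hES35c0_u1 : ∀ i, i < 702 → (fun i => lowOK D.T lN0 3 2 wES35 i) i = true :=
  allI_join hES35c0_u0 hES35c0_c1 rfl
theorem hES35c0 : ∀ i, i < 702 → (fun i => lowOK D.T lN0 3 2 wES35 i) i = true := hES35c0_u1
theorem hES36c0_c0 : allI (fun i => lowOK D.T lN0 3 2 wES36 i) 0 702 = true := by decide +kernel
theorem hES36c0_u0 : ∀ i, i < 702 → (fun i => lowOK D.T lN0 3 2 wES36 i) i = true :=
  allI_join allI_start hES36c0_c0 rfl
theorem hES36c0 : ∀ i, i < 702 → (fun i => lowOK D.T lN0 3 2 wES36 i) i = true := hES36c0_u0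

end Cfsg.Agent.Lib.KnownSimple.G23Lab
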